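import Cfsg.Prelude.Def_Solvable
import Cfsg.Prelude.Def_Transfer
import Cfsg.Agent.Lib.Thompson.Cores
import Mathlib.GroupTheory.SpecificGroups.Cyclic
import Mathlib.GroupTheory.Sylow
import Mathlib.GroupTheory.GroupAction.Transitive

/-!
A `p`-element centralising the normaliser of a Sylow `p`-subgroup of a group with trivial `p`-core,
whose normal subgroup of `p`-power index is a central quotient of a rank one group, is trivial.
-/

set_option autoImplicit false
set_option linter.unusedSectionVars false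

namespace Cfsg.Agent.FG78.RankOne3047

open Subgroup MulAction

/-- The data of a rank one group in characteristic `p`. -/
structure Data (p : ℕ) (R₀ : Type*) [Group R₀] (Ω : Type*) [MulAction R₀ Ω] (C : Type*)
    [CommGroup C] where
  inf : Ω
  zero : Ω
  hne : zero ≠ inf
  hthree : ∃ x : Ω, x ≠ inf ∧ x ≠ zero
  U : Subgroup R₀
  hU : IsPGroup p U
  hUs : U ≤ stabilizer R₀ inf
  χ : stabilizer R₀ inf →* C
  hχ : ∀ g : stabilizer R₀ inf, χ g = 1 ↔ (g : R₀) ∈ U
  cop : p.Coprime (Nat.card C)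
  trans : ∀ x, x ≠ inf → ∃ u ∈ U, u • zero = x
  move : ∃ g : R₀, g • inf = zero
  t : R₀
  t_inf : t • inf = inf
  t_zero : t • zero = zero
  t_pow : t ^ (p - 1) = 1
  only : ∀ x, x ≠ inf → t • x = x → x = zero
  triv : ∀ g : R₀, (∀ x : Ω, g • x = x) → g ^ 6 = 1

theorem not_dvd_six {p : ℕ} (hp : p.Prime) (hp5 : 5 ≤ p) : ¬ p ∣ 6 := fun h => by
  have := Nat.le_of_dvd (by norm_num) h
  interval_cases p <;> norm_num at *

/-- A `p`-element normalising a cyclic group of order `n` with `φ n` prime to `p` centralises it. -/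
theorem fix_cyclic {P : Type*} [Group P] [Finite P] {p : ℕ} (H : Subgroup P) [IsCyclic H] {z : P}
    (hz : z ∈ normalizer (H : Set P)) {j : ℕ} (hzj : z ^ p ^ j = 1)
    (hn : p.Coprime (Nat.totient (Nat.card H))) {x : P} (hx : x ∈ H) : z * x * z⁻¹ = x := by
  set φ := normalizerMonoidHom H with hφ
  have h1 : orderOf (φ ⟨z, hz⟩) ∣ p ^ j :=
    orderOf_dvd_of_pow_eq_one (by
      rw [← map_pow, show (⟨z, hz⟩ : normalizer (H : Set P)) ^ p ^ j = 1 from
        Subtype.ext (by simpa using hzj), map_one])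
  have h2 : orderOf (φ ⟨z, hz⟩) ∣ Nat.totient (Nat.card H) := by
    rw [← IsCyclic.card_mulAut]
    exact _root_.orderOf_dvd_natCard _
  have h3 : φ ⟨z, hz⟩ = 1 := orderOf_eq_one_iff.mp
    (Nat.eq_one_of_dvd_coprimes (hn.pow_left j) h1 h2)
  exact congrArg Subtype.val (DFunLike.congr_fun h3 ⟨x, hx⟩)

variable {p : ℕ} {R₀ : Type*} [Group R₀] {Ω : Type*} [MulAction R₀ Ω] {C : Type*} [CommGroup C]

namespace Data

variable (d : Data p R₀ Ω C)

theorem mem_stab {g : R₀} (hg : g • d.inf = d.inf) : g ∈ stabilizer R₀ d.inf := hg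

theorem conj_mem_U {k u : R₀} (hk : k • d.inf = d.inf) (hu : u ∈ d.U) :
    k * u * k⁻¹ ∈ d.U := by
  have h := (d.hχ (⟨k, d.mem_stab hk⟩ * ⟨u, d.hUs hu⟩ * ⟨k, d.mem_stab hk⟩⁻¹)).1 (by
    rw [map_mul, map_mul, (d.hχ ⟨u, d.hUs hu⟩).2 hu, mul_one, map_inv, mul_inv_cancel])
  simpa using h

theorem inf_of_fixed {y : Ω} (h : ∀ u ∈ d.U, u • y = y) : y = d.inf := by
  by_contra hy
  obtain ⟨u₀, hu₀, rfl⟩ := d.trans y hy
  have h0 : ∀ u ∈ d.U, u • d.zero = d.zero := fun u hu => by
    have h1 := h (u₀ * u * u₀⁻¹) (mul_mem (mul_mem hu₀ hu) (inv_mem hu₀))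
    rwa [mul_smul, inv_smul_smul, mul_smul, smul_left_cancel_iff] at h1
  obtain ⟨x, hx, hx0⟩ := d.hthree
  obtain ⟨u, hu, hux⟩ := d.trans x hx
  exact hx0 (by rw [← hux, h0 u hu])

theorem exists_smul_eq (x : Ω) : ∃ g : R₀, g • d.inf = x := by
  rcases eq_or_ne x d.inf with rfl | hx
  · exact ⟨1, one_smul _ _⟩
  · obtain ⟨u, -, rfl⟩ := d.trans x hx
    obtain ⟨g, hg⟩ := d.move
    exact ⟨u * g, by rw [mul_smul, hg]⟩

theorem center_smul (d : Data p R₀ Ω C) {c : R₀} (hc : c ∈ center R₀) (x : Ω) : c • x = x := by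
  have h : c • d.inf = d.inf := d.inf_of_fixed fun u hu => by
    rw [← mul_smul, mem_center_iff.mp hc u, mul_smul, show u • d.inf = d.inf from d.hUs hu]
  obtain ⟨g, rfl⟩ := d.exists_smul_eq x
  rw [← mul_smul, ← mem_center_iff.mp hc g, mul_smul, h]

end Data

variable [Finite R₀] {P : Type*} [Group P]

theorem Data.not_dvd_index [Fact p.Prime] (d : Data p R₀ Ω C) : ¬ p ∣ d.U.index := by
  haveI : IsPretransitive R₀ Ω := ⟨fun x y => by
    obtain ⟨g, rfl⟩ := d.exists_smul_eq x
    obtain ⟨h, rfl⟩ := d.exists_smul_eq y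
    exact ⟨h * g⁻¹, by rw [mul_smul, inv_smul_smul]⟩⟩
  haveI : Finite Ω := Finite.of_surjective (fun g : R₀ => g • d.inf) d.exists_smul_eq
  have hp : p.Prime := Fact.out
  rw [← relIndex_mul_index d.hUs, index_stabilizer_of_transitive, hp.dvd_mul]
  rintro (h | h)
  · have hk : d.U.subgroupOf (stabilizer R₀ d.inf) = d.χ.ker :=
      Subgroup.ext fun g => by rw [mem_subgroupOf, MonoidHom.mem_ker, d.hχ]
    rw [relIndex, hk, index_ker] at h
    exact hp.ne_one (Nat.eq_one_of_dvd_coprimes d.cop dvd_rfl (h.trans (card_subgroup_dvd_card _)))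
  · let e : Ω ≃ Option {x : Ω // x ≠ d.inf} :=
      by classical exact (Equiv.optionSubtypeNe d.inf).symm
    have ho : orbit d.U d.zero = {x : Ω | x ≠ d.inf} := Set.ext fun x => by
      constructor
      · rintro ⟨u, rfl⟩ e
        refine d.hne ?_
        have : (u : R₀) • d.zero = d.inf := e
        rw [← smul_left_cancel_iff (u : R₀), this, show (u : R₀) • d.inf = d.inf from d.hUs u.2]
      · intro hx
        obtain ⟨u, hu, rfl⟩ := d.trans x hx
        exact ⟨⟨u, hu⟩, rfl⟩
    have hcard : Nat.card {x : Ω // x ≠ d.inf} = (stabilizer d.U d.zero).index := by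
      rw [index_stabilizer, ho, ← Nat.card_coe_set_eq]
      rfl
    obtain ⟨k, hk⟩ := d.hU.index (stabilizer d.U d.zero)
    rw [hk] at hcard
    rw [Nat.card_congr e, Finite.card_option, hcard] at h
    rcases Nat.eq_zero_or_pos k with rfl | hk0
    · rw [pow_zero] at hcard
      obtain ⟨x, hx, hx0⟩ := d.hthree
      haveI := (Nat.card_eq_one_iff_unique.mp hcard).1
      exact hx0 (congrArg Subtype.val (Subsingleton.elim (⟨x, hx⟩ : {x : Ω // x ≠ d.inf})
        ⟨d.zero, d.hne⟩))
    · exact hp.not_dvd_one ((Nat.dvd_add_right (dvd_pow_self p hk0.ne')).mp h)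

/-- The conjugates of the image of `U`. -/
def W (d : Data p R₀ Ω C) (f : R₀ →* P) (g : R₀) : Subgroup P :=
  (d.U.map f).map (MulAut.conj (f g)).toMonoidHom

theorem W_mul (d : Data p R₀ Ω C) (f : R₀ →* P) (g h : R₀) :
    (W d f h).map (MulAut.conj (f g)).toMonoidHom = W d f (g * h) := by
  rw [W, W, map_map]
  congr 1
  ext x
  simp [mul_assoc]

theorem W_eq_iff (d : Data p R₀ Ω C) {f : R₀ →* P} (hker : f.ker ≤ center R₀) {g h : R₀} :
    W d f g = W d f h ↔ g • d.inf = h • d.inf := by
  constructor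
  · intro he
    have h1 : ∀ u ∈ d.U, u • (g⁻¹ * h) • d.inf = (g⁻¹ * h) • d.inf := fun u hu => by
      have hm : (MulAut.conj (f g)).toMonoidHom (f u) ∈ W d f h :=
        he ▸ mem_map_of_mem _ (mem_map_of_mem _ hu)
      obtain ⟨_, ⟨v, hv, rfl⟩, hve⟩ := hm
      have hc : (h * v * h⁻¹)⁻¹ * (g * u * g⁻¹) ∈ f.ker := by
        simp only [MulEquiv.coe_toMonoidHom, MulAut.conj_apply] at hve
        rw [MonoidHom.mem_ker, map_mul, map_inv, map_mul, map_mul, map_mul, map_mul, map_inv,
          map_inv, hve, inv_mul_cancel]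
      have h2 := d.center_smul (hker hc) (h • d.inf)
      rw [mul_smul, inv_smul_eq_iff, mul_smul (h * v) h⁻¹, inv_smul_smul, mul_smul h v,
        show v • d.inf = d.inf from d.hUs hv, mul_smul (g * u), mul_smul g u] at h2
      rw [mul_smul, ← smul_left_cancel_iff g, h2, smul_inv_smul]
    have h3 := d.inf_of_fixed h1
    rw [mul_smul, inv_smul_eq_iff] at h3
    exact h3.symm
  · intro he
    have key : ∀ g h : R₀, g • d.inf = h • d.inf → W d f g ≤ W d f h := fun g h he => by
      rintro _ ⟨_, ⟨u, hu, rfl⟩, rfl⟩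
      refine ⟨f ((h⁻¹ * g) * u * (h⁻¹ * g)⁻¹), mem_map_of_mem _
        (d.conj_mem_U (by rw [mul_smul, he, inv_smul_smul]) hu), ?_⟩
      simp [mul_assoc]
    exact le_antisymm (key g h he) (key h g he.symm)

section Main

variable [Finite P] [hp : Fact p.Prime]

/-- The case in which the image of `U` is the intersection of `S` with the range. -/
theorem eq_one_aux (d : Data p R₀ Ω C) [IsCyclic C] (hp5 : 5 ≤ p) (f : R₀ →* P)
    (hker : f.ker ≤ center R₀) (hrange : f.range = pResidual p P) (hN : f.range.Normal)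
    (hO : pCore p P = ⊥)
    (S : Sylow p P) (hUS : (S : Subgroup P) ⊓ f.range = d.U.map f) {z : P}
    (hzS : z ∈ (S : Subgroup P))
    (hzN : ∀ x ∈ normalizer ((S : Subgroup P) : Set P), x * z = z * x) : z = 1 := by
  classical
  have hp' : p.Prime := hp.out
  obtain ⟨j, hj⟩ := S.2 ⟨z, hzS⟩
  have hzj : z ^ p ^ j = 1 := by simpa using congrArg Subtype.val hj
  set V := d.U.map f with hV
  have hVS : V ≤ (S : Subgroup P) := hUS ▸ inf_le_left
  have hzV : ∀ v ∈ V, v * z = z * v := fun v hv => hzN v (le_normalizer (hVS hv))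
  have hSV : ∀ s ∈ (S : Subgroup P), s ∈ normalizer (V : Set P) := fun s hs =>
    mem_normalizer_fintype fun v hv => by
      have hv' : v ∈ (S : Subgroup P) ⊓ f.range := hUS.symm ▸ hv
      show s * v * s⁻¹ ∈ V
      rw [← hUS]
      exact ⟨(S : Subgroup P).mul_mem ((S : Subgroup P).mul_mem hs hv'.1)
        ((S : Subgroup P).inv_mem hs), hN.conj_mem v hv'.2 s⟩
  have hstab : ∀ k, f k ∈ normalizer (V : Set P) ↔ k • d.inf = d.inf := fun k => by
    have h1 : W d f 1 = V := by ext x; simp [W, hV]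
    rw [mem_normalizer_iff_map_conj_eq, ← h1]
    show (W d f 1).map (MulAut.conj (f k)).toMonoidHom = W d f 1 ↔ _
    rw [W_mul, mul_one, W_eq_iff d hker, one_smul]
  have htN : f d.t ∈ normalizer (V : Set P) := (hstab _).mpr d.t_inf
  -- `f t` normalises `S`
  have htS : f d.t ∈ normalizer ((S : Subgroup P) : Set P) := by
    let N := normalizer (V : Set P)
    let mk := QuotientGroup.mk' (V.subgroupOf N)
    let ψ : stabilizer R₀ d.inf →* N ⧸ V.subgroupOf N := mk.comp
      ((f.comp (stabilizer R₀ d.inf).subtype).codRestrict N fun k => (hstab _).mpr k.2)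
    haveI : IsCyclic ψ.range := by
      obtain ⟨c₀, hc₀⟩ := IsCyclic.exists_generator (α := d.χ.range)
      obtain ⟨g₀, hg₀⟩ := c₀.2
      refine ⟨⟨ψ g₀, g₀, rfl⟩, ?_⟩
      rintro ⟨_, g, rfl⟩
      obtain ⟨i, hi⟩ := mem_zpowers_iff.mp (hc₀ ⟨d.χ g, g, rfl⟩)
      refine mem_zpowers_iff.mpr ⟨i, Subtype.ext ?_⟩
      have hi' : d.χ g₀ ^ i = d.χ g := by
        rw [hg₀]
        exact congrArg Subtype.val hi
      have hu : ((g₀ ^ i)⁻¹ * g : stabilizer R₀ d.inf).1 ∈ d.U :=
        (d.hχ _).1 (by rw [map_mul, map_inv, map_zpow, hi', inv_mul_cancel])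
      have h1 : ψ ((g₀ ^ i)⁻¹ * g) = 1 :=
        (QuotientGroup.eq_one_iff _).mpr (mem_subgroupOf.mpr (mem_map_of_mem f hu))
      rw [map_mul, map_inv, map_zpow, inv_mul_eq_one] at h1
      simpa using h1
    refine mem_normalizer_fintype fun s hs => ?_
    set a : N ⧸ V.subgroupOf N := mk ⟨f d.t, htN⟩ with ha
    set b : N ⧸ V.subgroupOf N := mk ⟨s, hSV s hs⟩ with hb
    have haR : a ∈ ψ.range := ⟨⟨d.t, d.t_inf⟩, rfl⟩
    have hbR : b * a * b⁻¹ ∈ ψ.range := by
      obtain ⟨k, hk⟩ := hN.conj_mem (f d.t) ⟨d.t, rfl⟩ s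
      have hk' : f k ∈ N := hk ▸ mul_mem (mul_mem (hSV s hs) htN) (inv_mem (hSV s hs))
      refine ⟨⟨k, (hstab k).mp hk'⟩, ?_⟩
      rw [ha, hb, ← map_inv, ← map_mul, ← map_mul]
      exact congrArg mk (Subtype.ext hk)
    have hsame : zpowers (b * a * b⁻¹) = zpowers a := by
      have hn : 0 < orderOf a := orderOf_pos a
      haveI := Fintype.ofFinite ψ.range
      have hsub : zpowers (b * a * b⁻¹) ≤ zpowers a := by
        rw [zpowers_le]
        by_contra hcon
        have hle := IsCyclic.card_pow_eq_one_le (α := ψ.range) hn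
        let S₁ : Finset ψ.range := Finset.univ.filter fun y => (y : N ⧸ V.subgroupOf N) ∈ zpowers a
        have hS₁ : S₁.card = orderOf a := by
          haveI := Fintype.ofFinite (zpowers a)
          rw [← Nat.card_zpowers, Nat.card_eq_fintype_card, Fintype.card]
          refine Finset.card_bij (fun y hy => ⟨y.1, (Finset.mem_filter.mp hy).2⟩)
            (fun _ _ => Finset.mem_univ _) (fun y _ y' _ h => Subtype.ext (Subtype.mk.inj h))
            (fun y _ => ⟨⟨y.1, zpowers_le.mpr haR y.2⟩, by simp [S₁], rfl⟩)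
        have hsubset : insert ⟨_, hbR⟩ S₁ ⊆
            Finset.univ.filter fun y : ψ.range => y ^ orderOf a = 1 := by
          intro y hy
          refine Finset.mem_filter.mpr ⟨Finset.mem_univ _, Subtype.ext ?_⟩
          rcases Finset.mem_insert.mp hy with rfl | hy
          · simp [conj_pow, pow_orderOf_eq_one]
          · obtain ⟨i, hi⟩ := mem_zpowers_iff.mp (Finset.mem_filter.mp hy).2
            push_cast
            rw [← hi, ← zpow_natCast, ← zpow_mul, mul_comm, zpow_mul, zpow_natCast,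
              pow_orderOf_eq_one, one_zpow]
        have hlt := (Finset.card_le_card hsubset).trans hle
        have hins : (insert (⟨_, hbR⟩ : ψ.range) S₁).card = S₁.card + 1 :=
          Finset.card_insert_of_notMem fun h => hcon (Finset.mem_filter.mp h).2
        rw [hins, hS₁] at hlt
        omega
      refine eq_of_le_of_card_ge hsub (le_of_eq ?_)
      rw [Nat.card_zpowers, Nat.card_zpowers, ← MulAut.conj_apply, MulEquiv.orderOf_eq]
    have hbn : b ∈ normalizer (zpowers a : Set _) := by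
      rw [mem_normalizer_iff_map_conj_eq]
      show (zpowers a).map (MulAut.conj b).toMonoidHom = zpowers a
      rw [MonoidHom.map_zpowers]
      exact hsame
    obtain ⟨i, hi⟩ := S.2 ⟨s, hs⟩
    have hsi : s ^ p ^ i = 1 := by simpa using congrArg Subtype.val hi
    have hord : orderOf a ∣ p - 1 :=
      orderOf_dvd_of_pow_eq_one (by
        rw [ha, ← map_pow, show (⟨f d.t, htN⟩ : N) ^ (p - 1) = 1 from
          Subtype.ext (by simp [← map_pow, d.t_pow]), map_one])
    have hfix := fix_cyclic (p := p) (zpowers a) hbn (j := i) (by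
        rw [hb, ← map_pow, show (⟨s, hSV s hs⟩ : N) ^ p ^ i = 1 from
          Subtype.ext (by simpa using hsi), map_one])
      (by
        rw [Nat.card_zpowers]
        refine (Nat.Prime.coprime_iff_not_dvd hp').mpr fun hdvd => ?_
        have h1 : Nat.totient (orderOf a) ≤ p - 1 :=
          (Nat.totient_le _).trans (Nat.le_of_dvd (by omega) hord)
        have h2 := Nat.totient_pos.mpr (orderOf_pos a)
        have h3 := Nat.le_of_dvd h2 hdvd
        omega) (mem_zpowers a)
    have hV' : s * f d.t * s⁻¹ * (f d.t)⁻¹ ∈ V := by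
      have : mk (⟨s, hSV s hs⟩ * ⟨f d.t, htN⟩ * ⟨s, hSV s hs⟩⁻¹ * ⟨f d.t, htN⟩⁻¹) = 1 := by
        rw [map_mul, map_mul, map_mul, map_inv, map_inv, ← ha, ← hb, hfix, mul_inv_cancel]
      simpa [mem_subgroupOf] using (QuotientGroup.eq_one_iff _).mp this
    have h4 : f d.t * s * (f d.t)⁻¹ = (s * f d.t * s⁻¹ * (f d.t)⁻¹)⁻¹ * s := by group
    show f d.t * s * (f d.t)⁻¹ ∈ (S : Subgroup P)
    rw [h4]
    exact mul_mem (inv_mem (hVS hV')) hs
  have hzt := hzN _ htS
  -- `z` fixes all the conjugates of `V`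
  have hconj : ∀ g, ∃ h, (W d f g).map (MulAut.conj z).toMonoidHom = W d f h := fun g => by
    obtain ⟨h, hh⟩ := hN.conj_mem (f g) ⟨g, rfl⟩ z
    refine ⟨h, ?_⟩
    rw [W, W, map_map]
    refine SetLike.ext fun x => ⟨?_, ?_⟩ <;> rintro ⟨v, hv, rfl⟩ <;> refine ⟨v, hv, ?_⟩
    all_goals simp only [MonoidHom.coe_comp, MulEquiv.coe_toMonoidHom, Function.comp_apply,
      MulAut.conj_apply, hh]
    all_goals simp only [mul_inv_rev, inv_inv, mul_assoc]
    all_goals rw [show z⁻¹ * (v * (z * ((f g)⁻¹ * z⁻¹))) = v * ((f g)⁻¹ * z⁻¹) by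
      rw [← mul_assoc v z, hzV v hv, mul_assoc z, inv_mul_cancel_left]]
  obtain ⟨g₀, hg₀⟩ := d.move
  have hW : ∀ (g : R₀) (h : R₀), (W d f g).map (MulAut.conj z).toMonoidHom = W d f h →
      ∀ k, f k * z = z * f k →
      (W d f (k * g)).map (MulAut.conj z).toMonoidHom = W d f (k * h) := fun g h hgh k hk => by
    rw [← W_mul, ← W_mul, ← hgh, map_map, map_map]
    congr 1
    ext x
    simp only [MonoidHom.coe_comp, MulEquiv.coe_toMonoidHom, Function.comp_apply, MulAut.conj_apply]
    calc z * (f k * x * (f k)⁻¹) * z⁻¹ = z * f k * x * (z * f k)⁻¹ := by group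
      _ = f k * z * x * (f k * z)⁻¹ := by rw [hk]
      _ = f k * (z * x * z⁻¹) * (f k)⁻¹ := by group
  have hzV' : (W d f 1).map (MulAut.conj z).toMonoidHom = W d f 1 := by
    have h1 : W d f 1 = V := by ext x; simp [W, hV]
    rw [h1]
    exact (mem_normalizer_iff_map_conj_eq.mp (hSV z hzS))
  have hz0 : (W d f g₀).map (MulAut.conj z).toMonoidHom = W d f g₀ := by
    obtain ⟨h, hh⟩ := hconj g₀
    have h1 := hW g₀ h hh d.t hzt
    rw [(W_eq_iff d hker).mpr (show (d.t * g₀) • d.inf = g₀ • d.inf by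
      rw [mul_smul, hg₀, d.t_zero]), hh, W_eq_iff d hker, mul_smul] at h1
    have hne : h • d.inf ≠ d.inf := fun e => by
      have h2 : W d f h = W d f 1 := (W_eq_iff d hker).mpr (by rw [one_smul, e])
      rw [h2, ← hzV'] at hh
      have h3 := (W_eq_iff d hker).mp (map_injective (MulEquiv.injective _) hh)
      rw [one_smul, hg₀] at h3
      exact d.hne h3
    rw [hh, W_eq_iff d hker, hg₀]
    exact d.only _ hne h1.symm
  have hall : ∀ g, (W d f g).map (MulAut.conj z).toMonoidHom = W d f g := fun g => by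
    rcases eq_or_ne (g • d.inf) d.inf with he | he
    · rw [(W_eq_iff d hker).mpr (show g • d.inf = (1 : R₀) • d.inf by rw [one_smul, he])]
      exact hzV'
    · obtain ⟨u, hu, hug⟩ := d.trans _ he
      rw [(W_eq_iff d hker).mpr (show g • d.inf = (u * g₀) • d.inf by rw [mul_smul, hg₀, hug])]
      exact hW g₀ g₀ hz0 u (hzV _ (mem_map_of_mem f hu))
  -- the kernel of the action
  let D : Subgroup R₀ := (MulAction.toPermHom R₀ Ω).ker
  have hmemD : ∀ k, (∀ g, (W d f g).map (MulAut.conj (f k)).toMonoidHom = W d f g) → k ∈ D :=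
    fun k hk => Equiv.ext fun x => by
      obtain ⟨g, rfl⟩ := d.exists_smul_eq x
      have := hk g
      rw [W_mul, W_eq_iff d hker, mul_smul] at this
      simpa using this
  have hDW : ∀ k ∈ D, ∀ g, (W d f g).map (MulAut.conj (f k)).toMonoidHom = W d f g :=
    fun k hk g => by
      rw [W_mul, W_eq_iff d hker, mul_smul]
      exact Equiv.congr_fun hk _
  have hD6 : ∀ k ∈ D, k ^ 6 = 1 := fun k hk => d.triv k fun x => Equiv.congr_fun hk x
  haveI : IsCyclic D := by
    refine isCyclic_of_injective (d.χ.comp (inclusion (show D ≤ stabilizer R₀ d.inf from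
      fun k hk => Equiv.congr_fun hk d.inf))) ((injective_iff_map_eq_one _).mpr fun k hk => ?_)
    have hkU : (k : R₀) ∈ d.U := (d.hχ _).1 hk
    obtain ⟨i, hi⟩ := d.hU ⟨k, hkU⟩
    have hi' : (k : R₀) ^ p ^ i = 1 := by simpa using congrArg Subtype.val hi
    refine Subtype.ext (orderOf_eq_one_iff.mp (Nat.eq_one_of_dvd_coprimes ?_
      (orderOf_dvd_of_pow_eq_one hi') (orderOf_dvd_of_pow_eq_one (hD6 k k.2))))
    exact Nat.Coprime.pow_left i ((Nat.Prime.coprime_iff_not_dvd hp').mpr
      (not_dvd_six hp' hp5))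
  haveI : IsCyclic (D.map f) := isCyclic_of_surjective _ (f.subgroupMap_surjective D)
  have hcard : Nat.card (D.map f) ∣ 6 := by
    rw [← IsCyclic.exponent_eq_card, Monoid.exponent_dvd_iff_forall_pow_eq_one]
    rintro ⟨_, k, hk, rfl⟩
    exact Subtype.ext (by simp [← map_pow, hD6 k hk])
  have hzD : z ∈ normalizer (D.map f : Set P) := mem_normalizer_fintype fun x hx => by
    obtain ⟨k, hk, rfl⟩ := hx
    obtain ⟨h, hh⟩ := hN.conj_mem (f k) ⟨k, rfl⟩ z
    refine ⟨h, hmemD h fun g => ?_, hh⟩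
    rw [hh]
    have e1 : (W d f g).map (MulAut.conj z⁻¹).toMonoidHom = W d f g := by
      conv_lhs => rw [← hall g]
      rw [map_map]
      convert map_id (W d f g) using 2
      ext y
      simp [mul_assoc]
    calc (W d f g).map (MulAut.conj (z * f k * z⁻¹)).toMonoidHom
        = (((W d f g).map (MulAut.conj z⁻¹).toMonoidHom).map
            (MulAut.conj (f k)).toMonoidHom).map (MulAut.conj z).toMonoidHom := by
          rw [map_map, map_map]
          congr 1
          ext y
          simp [mul_assoc]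
      _ = W d f g := by rw [e1, hDW k hk g, hall]
  have hcomm : ∀ g, z * f g = f g * z := fun g => by
    obtain ⟨h, hh⟩ := hN.conj_mem (f g) ⟨g, rfl⟩ z
    have hk : h * g⁻¹ ∈ D := hmemD _ fun g' => by
      rw [map_mul, map_inv, hh]
      have e1 : ∀ g', (W d f g').map (MulAut.conj z⁻¹).toMonoidHom = W d f g' := fun g' => by
        conv_lhs => rw [← hall g']
        rw [map_map]
        convert map_id (W d f g') using 2
        ext y
        simp [mul_assoc]
      calc (W d f g').map (MulAut.conj (z * f g * z⁻¹ * (f g)⁻¹)).toMonoidHom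
          = ((((W d f g').map (MulAut.conj (f g⁻¹)).toMonoidHom).map
              (MulAut.conj z⁻¹).toMonoidHom).map (MulAut.conj (f g)).toMonoidHom).map
                (MulAut.conj z).toMonoidHom := by
            rw [map_map, map_map, map_map]
            congr 1
            ext y
            simp [mul_assoc]
        _ = W d f g' := by rw [W_mul, e1, W_mul, hall, mul_inv_cancel_left]
    set c := f (h * g⁻¹) with hc
    have hcD : c ∈ D.map f := mem_map_of_mem f hk
    have hc1 : z * f g * z⁻¹ = c * f g := by rw [hc, map_mul, map_inv, inv_mul_cancel_right, hh]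
    have hzc : z * c * z⁻¹ = c := fix_cyclic (p := p) (D.map f) hzD hzj (by
        refine (Nat.Prime.coprime_iff_not_dvd hp').mpr fun hd => ?_
        have : Nat.card (D.map f) ∈ Nat.divisors 6 := Nat.mem_divisors.mpr ⟨hcard, by norm_num⟩
        rw [show Nat.divisors 6 = {1, 2, 3, 6} by decide] at this
        simp only [Finset.mem_insert, Finset.mem_singleton] at this
        have h6 : Nat.totient (Nat.card (D.map f)) ≤ 2 ∧ 0 < Nat.totient (Nat.card (D.map f)) := by
          rcases this with e | e | e | e <;> rw [e] <;> decide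
        have := Nat.le_of_dvd h6.2 hd
        omega) hcD
    have hpow : ∀ n : ℕ, z ^ n * f g * (z ^ n)⁻¹ = c ^ n * f g := by
      intro n
      induction n with
      | zero => simp
      | succ n ih =>
        calc z ^ (n + 1) * f g * (z ^ (n + 1))⁻¹
            = z * (z ^ n * f g * (z ^ n)⁻¹) * z⁻¹ := by rw [pow_succ']; group
          _ = (z * c ^ n * z⁻¹) * (z * f g * z⁻¹) := by rw [ih]; group
          _ = c ^ (n + 1) * f g := by
            rw [← conj_pow, hzc, hc1, pow_succ, mul_assoc]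
    have h5 := hpow (p ^ j)
    rw [hzj, one_mul, inv_one, mul_one] at h5
    have hc6 : c ^ 6 = 1 := by rw [hc, ← map_pow, hD6 _ hk, map_one]
    have hcone : c = 1 := orderOf_eq_one_iff.mp (Nat.eq_one_of_dvd_coprimes
      (Nat.Coprime.pow_left j ((Nat.Prime.coprime_iff_not_dvd hp').mpr
        (not_dvd_six hp' hp5)))
      (orderOf_dvd_of_pow_eq_one (mul_eq_right.mp h5.symm)) (orderOf_dvd_of_pow_eq_one hc6))
    rw [hcone, one_mul, mul_inv_eq_iff_eq_mul] at hc1
    exact hc1
  have htop : f.range ⊔ (S : Subgroup P) = ⊤ := by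
    refine eq_top_iff.mpr fun x _ => ?_
    by_contra hx
    have hlt : (f.range ⊔ (S : Subgroup P)).index ≠ 1 := fun e => hx (by
      rw [index_eq_one.mp e]; exact mem_top x)
    obtain ⟨l, hl, hld⟩ := Nat.exists_prime_and_dvd hlt
    have h1 : l ∣ (S : Subgroup P).index := hld.trans (index_dvd_of_le le_sup_right)
    have h2 : l ∣ f.range.index := hld.trans (index_dvd_of_le le_sup_left)
    have hlp : l ≠ p := fun e => S.not_dvd_index (e ▸ h1)
    obtain ⟨m, hm⟩ : ∃ m, f.range.index = p ^ m := by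
      haveI := hN
      have hq : IsPGroup p (P ⧸ f.range) := by
        intro y
        induction y using QuotientGroup.induction_on with
        | H y =>
          refine ⟨(orderOf y).factorization p, ?_⟩
          rw [← QuotientGroup.mk_pow, QuotientGroup.eq_one_iff, hrange]
          refine subset_closure ?_
          show (orderOf (y ^ p ^ (orderOf y).factorization p)).Coprime p
          rw [orderOf_pow' _ (pow_ne_zero _ hp'.ne_zero),
            Nat.gcd_eq_right (Nat.ordProj_dvd _ _)]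
          exact (Nat.coprime_ordCompl hp' (orderOf_pos y).ne').symm
      exact hq.exists_card_eq
    rw [hm] at h2
    exact hlp ((Nat.prime_dvd_prime_iff_eq hl hp').mp (hl.dvd_of_dvd_pow h2))
  have hcen : z ∈ center P := by
    have hle : f.range ⊔ (S : Subgroup P) ≤ centralizer {z} := sup_le
      (fun x hx => by
        obtain ⟨g, rfl⟩ := hx
        exact mem_centralizer_singleton_iff.mpr (hcomm g).symm)
      (fun x hx => mem_centralizer_singleton_iff.mpr (hzN x (le_normalizer hx)))
    rw [htop] at hle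
    exact mem_center_iff.mpr fun x => mem_centralizer_singleton_iff.mp (hle (mem_top x))
  have hle : zpowers z ≤ pCore p P := Cfsg.Agent.Thompson.le_pCore
    ⟨fun x hx y => by
      have hxc : x ∈ center P := zpowers_le.mpr hcen hx
      rwa [mem_center_iff.mp hxc y, mul_inv_cancel_right]⟩
    (S.2.to_le (zpowers_le.mpr hzS))
  rw [hO] at hle
  simpa using hle (mem_zpowers z)

theorem eq_one (d : Data p R₀ Ω C) [IsCyclic C] (hp5 : 5 ≤ p) (f : R₀ →* P)
    (hker : f.ker ≤ center R₀) (hrange : f.range = pResidual p P) (hO : pCore p P = ⊥)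
    (S : Sylow p P) {z : P} (hzS : z ∈ (S : Subgroup P))
    (hzN : ∀ x ∈ normalizer ((S : Subgroup P) : Set P), x * z = z * x) : z = 1 := by
  haveI hN : f.range.Normal := hrange ▸ inferInstance
  set V := d.U.map f.rangeRestrict with hV
  have hVp : IsPGroup p V := d.hU.map _
  have hVi : ¬ p ∣ V.index := fun h => d.not_dvd_index
    (h.trans (index_map_dvd _ f.rangeRestrict_surjective))
  let T₀ : Sylow p f.range := hVp.toSylow hVi
  obtain ⟨Q, hQ⟩ := T₀.exists_comap_subtype_eq
  obtain ⟨x, hx⟩ := MulAction.exists_smul_eq P Q S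
  let f' : R₀ →* P := (MulAut.conj x).toMonoidHom.comp f
  have hker' : f'.ker ≤ center R₀ := fun y hy =>
    hker (MonoidHom.mem_ker.mpr ((MulAut.conj x).injective
      (by rw [map_one]; exact MonoidHom.mem_ker.mp hy)))
  have hr : f'.range = f.range := by
    rw [MonoidHom.range_comp]
    exact Normal.map_conj_eq f.range x
  refine eq_one_aux d hp5 f' hker' (hr.trans hrange) (hr.symm ▸ hN) hO S ?_ hzS hzN
  have hQV : (Q : Subgroup P) ⊓ f.range = d.U.map f := by
    have hT₀ : (T₀ : Subgroup f.range) = d.U.map f.rangeRestrict := rfl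
    rw [← hQ] at hT₀
    rw [← subgroupOf_map_subtype]
    show ((Q : Subgroup P).comap f.range.subtype).map f.range.subtype = _
    rw [hT₀, map_map]
    rfl
  rw [hr, ← map_map, ← hQV, map_inf _ _ _ (MulEquiv.injective _)]
  congr 1
  · rw [← hx]
    rfl
  · exact (Normal.map_conj_eq f.range x).symm

end Main

end Cfsg.Agent.FG78.RankOne3047
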