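import Cfsg.Agent.FG78.RankOne3047.Basic
import Mathlib.LinearAlgebra.Projectivization.Action
import Mathlib.LinearAlgebra.Matrix.SpecialLinearGroup
import Mathlib.FieldTheory.Finite.Basic

/-!
The rank one data of `SL₂` in characteristic at least five.
-/

set_option autoImplicit false

namespace Cfsg.Agent.FG78.RankOne3047

open Subgroup MulAction

/-- The eigenvalue on a fixed line. -/
theorem exists_eigen_hom {G V F : Type*} [Group G] [Field F] [AddCommGroup V] [Module F V]
    [DistribMulAction G V] [SMulCommClass G F V] {u : V} (hu : u ≠ 0) (H : Subgroup G)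
    (hH : ∀ g ∈ H, ∃ a : F, g • u = a • u) :
    ∃ χ : H →* Fˣ, ∀ g : H, (g : G) • u = (χ g : F) • u := by
  choose a ha using fun g : H => hH g g.2
  have ha0 : ∀ g, a g ≠ 0 := fun g e => hu (by
    have := ha g
    rw [e, zero_smul, smul_eq_zero_iff_eq] at this
    exact this)
  refine ⟨MonoidHom.mk' (fun g => Units.mk0 (a g) (ha0 g)) (fun g h => Units.ext ?_), ha⟩
  refine smul_left_injective F hu ?_
  show a (g * h) • u = (a g * a h) • u
  rw [← ha (g * h), Subgroup.coe_mul, mul_smul, ha h, smul_comm, ha g, smul_smul, mul_comm]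

theorem two_pow_sub_one {F : Type*} [Field F] {p : ℕ} [hp : Fact p.Prime] [CharP F p]
    (hp5 : 5 ≤ p) : (2 : F) ^ (p - 1) = 1 ∧ (2 : F) ≠ 0 ∧ (2 : F) ^ 2 ≠ 1 := by
  have h2 : (2 : ZMod p) ≠ 0 := by
    intro e
    have := (ZMod.natCast_eq_zero_iff 2 p).mp (by simpa using e)
    have := Nat.le_of_dvd (by norm_num) this
    omega
  refine ⟨?_, ?_, ?_⟩
  · have := congrArg (ZMod.castHom (dvd_refl p) F) (ZMod.pow_card_sub_one_eq_one h2)
    rwa [map_pow, map_one, map_ofNat] at this
  · intro e
    refine h2 ((ZMod.castHom (dvd_refl p) F).injective ?_)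
    rw [map_ofNat, map_zero, e]
  · intro e
    have h3 : ((3 : ℕ) : F) = 0 := by linear_combination e
    have := Nat.le_of_dvd (by norm_num) ((CharP.cast_eq_zero_iff F p 3).mp h3)
    omega

theorem coprime_units {F : Type*} [Field F] [Fintype F] {p : ℕ} [hp : Fact p.Prime] [CharP F p] :
    p.Coprime (Nat.card Fˣ) := by
  obtain ⟨n, -, hn⟩ := FiniteField.card F p
  rw [Nat.card_units, Nat.card_eq_fintype_card, hn]
  refine (Nat.Prime.coprime_iff_not_dvd hp.out).mpr fun h => hp.out.not_dvd_one ?_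
  have h1 : p ∣ p ^ (n : ℕ) := dvd_pow_self p n.pos.ne'
  have := Nat.dvd_sub h1 h
  rwa [Nat.sub_sub_self (Nat.one_le_pow _ _ hp.out.pos)] at this

section SL2

variable (F : Type*) [Field F]

local notation "V" => Fin 2 → F
local notation "G" => Matrix.SpecialLinearGroup (Fin 2) F

theorem smul_vec (g : G) (x : V) :
    g • x = ![g.1 0 0 * x 0 + g.1 0 1 * x 1, g.1 1 0 * x 0 + g.1 1 1 * x 1] := by
  funext i
  fin_cases i <;> simp [Matrix.SpecialLinearGroup.smul_def, Matrix.mulVec, dotProduct,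
    Fin.sum_univ_two]

theorem smul_mk (g : G) {v : V} (hv : v ≠ 0) :
    g • Projectivization.mk F v hv =
      Projectivization.mk F (g • v) ((smul_ne_zero_iff_ne g).2 hv) := rfl

/-- An element of `SL₂`. -/
def mk2 (a b c d : F) (h : a * d - b * c = 1) : G :=
  ⟨!![a, b; c, d], by rw [Matrix.det_fin_two]; simpa using h⟩

theorem mk2_smul (a b c d : F) (h : a * d - b * c = 1) (x : V) :
    mk2 F a b c d h • x = ![a * x 0 + b * x 1, c * x 0 + d * x 1] := by
  rw [smul_vec]
  simp [mk2]

/-- The rank one data of `SL₂`. -/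
theorem exists_data_SL2 [Fintype F] {p : ℕ} [Fact p.Prime] [CharP F p] (hp5 : 5 ≤ p) :
    Nonempty (Data p G (Projectivization F V) Fˣ) := by
  obtain ⟨h2p, h20, h22⟩ := two_pow_sub_one (F := F) hp5
  have hu : (![1, 0] : V) ≠ 0 := fun e => one_ne_zero (congrFun e 0)
  have hv : (![0, 1] : V) ≠ 0 := fun e => one_ne_zero (congrFun e 1)
  have hw : (![1, 1] : V) ≠ 0 := fun e => one_ne_zero (congrFun e 0)
  let inf := Projectivization.mk F _ hu
  let zero := Projectivization.mk F _ hv
  obtain ⟨χ, hχ⟩ := exists_eigen_hom (F := F) hu (stabilizer G inf) fun g hg => by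
    obtain ⟨a, ha⟩ := (Projectivization.mk_eq_mk_iff' F _ _ _ _).1 hg
    exact ⟨a, ha.symm⟩
  have hlow : ∀ g : G, g • (![1, 0] : V) = ![1, 0] → g.1 0 0 = 1 ∧ g.1 1 0 = 0 ∧ g.1 1 1 = 1 :=
    fun g hg => by
    rw [smul_vec] at hg
    have h0 : g.1 0 0 = 1 := by simpa using congrFun hg 0
    have h1 : g.1 1 0 = 0 := by simpa using congrFun hg 1
    refine ⟨h0, h1, ?_⟩
    have := g.2
    rw [Matrix.det_fin_two, h0, h1] at this
    simpa using this
  let t : G := mk2 F 2 0 0 2⁻¹ (by simp [h20])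
  have ht : ∀ x : V, t • x = ![2 * x 0, 2⁻¹ * x 1] := fun x => by simp [t, mk2_smul]
  refine ⟨⟨inf, zero, ?_, ⟨Projectivization.mk F _ hw, ?_, ?_⟩, stabilizer G (![1, 0] : V), ?_,
    fun g hg => ?_, χ, fun g => ?_, coprime_units, fun x hx => ?_,
    ⟨mk2 F 0 (-1) 1 0 (by simp), ?_⟩, t, ?_, ?_, ?_, fun x hx htx => ?_,
    fun g hg => ?_⟩⟩
  · intro e
    obtain ⟨a, ha⟩ := (Projectivization.mk_eq_mk_iff' F _ _ _ _).1 e
    simpa using congrFun ha 1
  · intro e
    obtain ⟨a, ha⟩ := (Projectivization.mk_eq_mk_iff' F _ _ _ _).1 e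
    simpa using congrFun ha 1
  · intro e
    obtain ⟨a, ha⟩ := (Projectivization.mk_eq_mk_iff' F _ _ _ _).1 e
    simpa using congrFun ha 0
  · intro ⟨g, hg⟩
    refine ⟨1, Subtype.ext ?_⟩
    have key : ∀ n : ℕ, ∀ x : V, (g ^ n) • x = ![x 0 + n * (g.1 0 1) * x 1, x 1] := by
      obtain ⟨h0, h1, h3⟩ := hlow g hg
      intro n
      induction n with
      | zero => intro x; funext i; fin_cases i <;> simp
      | succ n ih =>
        intro x
        rw [pow_succ', mul_smul, ih, smul_vec, h0, h1, h3]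
        funext i
        fin_cases i <;> simp
        ring
    show g ^ p ^ 1 = 1
    refine Subtype.ext (Matrix.ext_of_mulVec_single fun i => ?_)
    have := key p (Pi.single i 1)
    rw [pow_one]
    rw [CharP.cast_eq_zero F p, zero_mul, zero_mul, add_zero] at this
    rw [Matrix.SpecialLinearGroup.coe_one, Matrix.one_mulVec]
    exact this.trans (by funext j; fin_cases j <;> simp)
  · show g • inf = inf
    rw [smul_mk]
    exact (Projectivization.mk_eq_mk_iff' F _ _ _ _).2 ⟨1, by rw [one_smul]; exact hg.symm⟩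
  · rw [mem_stabilizer_iff, hχ g]
    constructor
    · intro e; rw [e, Units.val_one, one_smul]
    · intro e
      exact Units.ext (smul_left_injective F hu (e.trans (one_smul F _).symm))
  · induction x using Projectivization.ind with
    | _ v' hv' =>
      have h1 : v' 1 ≠ 0 := fun e => hx ((Projectivization.mk_eq_mk_iff' F _ _ _ _).2
        ⟨v' 0, by funext i; fin_cases i <;> simp [e]⟩)
      refine ⟨mk2 F 1 (v' 0 / v' 1) 0 1 (by simp), ?_, ?_⟩
      · rw [mem_stabilizer_iff, mk2_smul]
        simp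
      · show _ • Projectivization.mk F _ hv = _
        rw [smul_mk]
        refine (Projectivization.mk_eq_mk_iff' F _ _ _ _).2 ⟨(v' 1)⁻¹, ?_⟩
        rw [mk2_smul]
        funext i
        fin_cases i <;> simp [h1, div_eq_inv_mul]
  · show _ • Projectivization.mk F _ hu = _
    rw [smul_mk]
    refine (Projectivization.mk_eq_mk_iff' F _ _ _ _).2 ⟨1, ?_⟩
    rw [mk2_smul]
    simp
  · show t • inf = inf
    rw [smul_mk]
    exact (Projectivization.mk_eq_mk_iff' F _ _ _ _).2 ⟨2, by rw [ht]; simp⟩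
  · show t • zero = zero
    rw [smul_mk]
    exact (Projectivization.mk_eq_mk_iff' F _ _ _ _).2 ⟨2⁻¹, by rw [ht]; simp⟩
  · refine Subtype.ext (Matrix.ext_of_mulVec_single fun i => ?_)
    have key : ∀ n : ℕ, ∀ x : V, (t ^ n) • x = ![2 ^ n * x 0, (2⁻¹) ^ n * x 1] := by
      intro n
      induction n with
      | zero => intro x; funext i; fin_cases i <;> simp
      | succ n ih =>
        intro x
        rw [pow_succ', mul_smul, ih, ht]
        funext i
        fin_cases i <;> simp [pow_succ'] <;> ring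
    have := key (p - 1) (Pi.single i 1)
    rw [inv_pow, h2p, inv_one, one_mul, one_mul] at this
    rw [Matrix.SpecialLinearGroup.coe_one, Matrix.one_mulVec]
    exact this.trans (by funext j; fin_cases j <;> simp)
  · induction x using Projectivization.ind with
    | _ v' hv' =>
      have h1 : v' 1 ≠ 0 := fun e => hx ((Projectivization.mk_eq_mk_iff' F _ _ _ _).2
        ⟨v' 0, by funext i; fin_cases i <;> simp [e]⟩)
      rw [smul_mk] at htx
      obtain ⟨a, ha⟩ := (Projectivization.mk_eq_mk_iff' F _ _ _ _).1 htx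
      rw [ht] at ha
      have e0 : a * v' 0 = 2 * v' 0 := by simpa using congrFun ha 0
      have e1 : a * v' 1 = 2⁻¹ * v' 1 := by simpa using congrFun ha 1
      rw [mul_right_cancel₀ h1 e1] at e0
      have h0 : v' 0 = 0 := by
        by_contra hc
        refine h22 ?_
        have := mul_right_cancel₀ hc e0
        rw [sq]
        nth_rewrite 1 [← this]
        exact inv_mul_cancel₀ h20
      exact (Projectivization.mk_eq_mk_iff' F _ _ _ _).2
        ⟨v' 1, by funext i; fin_cases i <;> simp [h0]⟩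
  · have e : ∀ {v : V} (hv : v ≠ 0), ∃ a : F, g • v = a • v := fun {v} hv => by
      obtain ⟨a, ha⟩ := (Projectivization.mk_eq_mk_iff' F _ _ _ _).1 (hg (Projectivization.mk F v hv))
      exact ⟨a, ha.symm⟩
    obtain ⟨a, ha⟩ := e hu
    obtain ⟨b, hb⟩ := e hv
    obtain ⟨c, hc⟩ := e hw
    rw [smul_vec] at ha hb hc
    have a0 : g.1 0 0 = a := by simpa using congrFun ha 0
    have a1 : g.1 1 0 = 0 := by simpa using congrFun ha 1
    have b0 : g.1 0 1 = 0 := by simpa using congrFun hb 0
    have b1 : g.1 1 1 = b := by simpa using congrFun hb 1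
    have c0 : a = c := by simpa [a0, b0] using congrFun hc 0
    have c1 : b = c := by simpa [a1, b1] using congrFun hc 1
    have hd := g.2
    rw [Matrix.det_fin_two, a0, a1, b0, b1, c0, c1] at hd
    have hM : (g.1 : Matrix (Fin 2) (Fin 2) F) = c • 1 := by
      ext i j
      fin_cases i <;> fin_cases j <;> simp [a0, a1, b0, b1, c0, c1]
    refine Subtype.ext ?_
    rw [Matrix.SpecialLinearGroup.coe_pow, hM, smul_pow, one_pow,
      Matrix.SpecialLinearGroup.coe_one, show c ^ 6 = 1 from ?_, one_smul]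
    linear_combination ((c * c) ^ 2 + c * c + 1) * hd

end SL2

end Cfsg.Agent.FG78.RankOne3047
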