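import Cfsg.Agent.FG78.RankOne3047.Linear
import Cfsg.Agent.Lib.Unitary.Simple
import Cfsg.Agent.Lib.Unitary.Center
import Mathlib.LinearAlgebra.FiniteDimensional.Basic

/-!
The rank one data of `SU₃` in characteristic at least five.
-/

set_option autoImplicit false

namespace Cfsg.Agent.FG78.RankOne3047

open Subgroup MulAction Cfsg.Agent.Unitary

variable {F : Type*} [Field F] [Fintype F] {q : ℕ} (hF : Fintype.card F = q ^ 2)

local notation "G" => SU 3 F q

/-- A hyperbolic pair with a unit vector orthogonal to both. -/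
structure Frame (q : ℕ) (u v w : (Fin 3 → F)) : Prop where
  uu : herm q u u = 0
  vv : herm q v v = 0
  uv : herm q u v = 1
  wu : herm q w u = 0
  wv : herm q w v = 0
  ww : herm q w w = 1

variable {u v w : (Fin 3 → F)}

include hF

theorem Frame.decomp (h : Frame q u v w) (x : (Fin 3 → F)) :
    x = herm q x v • u + herm q x u • v + herm q x w • w := by
  have hvu := herm_one_swap hF h.uv
  have huw := (herm_eq_zero_comm hF).1 h.wu
  have hvw := (herm_eq_zero_comm hF).1 h.wv
  have hli : LinearIndependent F ![u, v, w] := by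
    rw [Fintype.linearIndependent_iff]
    intro g hg
    rw [Fin.sum_univ_three] at hg
    simp only [Matrix.cons_val_zero, Matrix.cons_val_one, Matrix.cons_val] at hg
    have e : ∀ y, g 0 * herm q u y + g 1 * herm q v y + g 2 * herm q w y = 0 := fun y => by
      rw [← herm_smul_left, ← herm_smul_left, ← herm_smul_left, ← herm_add_left, ← herm_add_left, hg,
        herm_zero_left]
    have e0 := e v
    have e1 := e u
    have e2 := e w
    rw [h.uv, h.vv, h.wv] at e0
    rw [h.uu, hvu, h.wu] at e1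
    rw [huw, hvw, h.ww] at e2
    intro i
    fin_cases i
    · simpa using e0
    · simpa using e1
    · simpa using e2
  have hspan := hli.span_eq_top_of_card_eq_finrank (by simp)
  set d := x - (herm q x v • u + herm q x u • v + herm q x w • w) with hd
  have hperp : ∀ y ∈ Set.range ![u, v, w], herm q d y = 0 := by
    rintro _ ⟨i, rfl⟩
    fin_cases i <;>
      simp [hd, herm_sub_left, herm_add_left, herm_smul_left, h.uu, h.vv, h.uv, h.wu, h.wv, h.ww,
        hvu, huw, hvw]
  have hall : ∀ y, herm q d y = 0 := fun y => by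
    have hy : y ∈ Submodule.span F (Set.range ![u, v, w]) := hspan ▸ Submodule.mem_top
    induction hy using Submodule.span_induction with
    | mem z hz => exact hperp z hz
    | zero => exact herm_zero_right hF d
    | add z z' _ _ e e' => rw [herm_add_right hF, e, e', add_zero]
    | smul a z _ e => rw [herm_smul_right hF, e, mul_zero]
  exact sub_eq_zero.mp (eq_zero_of_herm hF hall)

theorem Frame.ext (h : Frame q u v w) {g g' : G} (hu : g • u = g' • u) (hv : g • v = g' • v)
    (hw : g • w = g' • w) : g = g' := eq_of_smul_eq_SU fun x => by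
  rw [h.decomp hF x]
  simp only [smul_add, smul_comm g, smul_comm g', hu, hv, hw]

/-- An element fixing the hyperbolic pair is trivial. -/
theorem Frame.eq_one (h : Frame q u v w) {g : G} (hu : g • u = u) (hv : g • v = v) : g = 1 := by
  set β := herm q (g • w) w with hβ
  have hgw : g • w = β • w := by
    conv_lhs => rw [h.decomp hF (g • w)]
    rw [show herm q (g • w) v = 0 by rw [← hv, herm_smul_SU, h.wv],
      show herm q (g • w) u = 0 by rw [← hu, herm_smul_SU, h.wu], zero_smul, zero_smul, zero_add,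
      zero_add]
  have hg : ∀ x, g • x = x + herm q x w • ((β - 1) • w) := fun x => by
    conv_lhs => rw [h.decomp hF x]
    rw [smul_add, smul_add, smul_comm g, hu, smul_comm g, hv, smul_comm g, hgw]
    conv_rhs => arg 1; rw [h.decomp hF x]
    module
  set A : Matrix (Fin 3) (Fin 1) F := Matrix.of fun k _ => ((β - 1) • w) k with hA
  set B : Matrix (Fin 1) (Fin 3) F := Matrix.of fun _ k => w k ^ q with hB
  have hM : ((g : Matrix.SpecialLinearGroup (Fin 3) F) : Matrix (Fin 3) (Fin 3) F) = 1 + A * B := by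
    refine Matrix.ext_of_mulVec_single fun i => ?_
    refine (hg (Pi.single i 1)).trans ?_
    rw [Matrix.add_mulVec, Matrix.one_mulVec]
    congr 1
    funext k
    simp only [show (Pi.single i 1 : Fin 3 → F) = eI i from rfl, herm_eI_left]
    simp [hA, hB, eI, Matrix.mul_apply, mul_comm]
  have hdet := g.1.2
  rw [hM, Matrix.det_one_add_mul_comm, Matrix.det_fin_one] at hdet
  have e : (B * A) 0 0 = (β - 1) := by
    rw [Matrix.mul_apply]
    calc ∑ j, B 0 j * A j 0 = (β - 1) * herm q w w := by
          show _ = (β - 1) * ∑ i, w i * w i ^ q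
          rw [Finset.mul_sum]
          exact Finset.sum_congr rfl fun k _ => by simp [hA, hB]; ring
      _ = β - 1 := by rw [h.ww, mul_one]
  rw [Matrix.add_apply, Matrix.one_apply_eq, e, add_sub_cancel] at hdet
  refine h.ext hF ?_ ?_ ?_ <;> rw [one_smul]
  · exact hu
  · exact hv
  · rw [hgw, hdet, one_smul]

/-- An element fixing `u` moves `w` by a multiple of `u`, and shifts the coordinates of `v`. -/
theorem Frame.fix_u (h : Frame q u v w) {g : G} (hu : g • u = u) :
    ∃ γ δ : F, g • v = v + γ • w + δ • u ∧ g • w = w - γ ^ q • u := by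
  set γ := herm q (g • v) w with hγ
  set δ := herm q (g • v) v with hδ
  have hxu : herm q (g • v) u = 1 := by rw [← hu, herm_smul_SU, herm_one_swap hF h.uv]
  have hgv : g • v = v + γ • w + δ • u := by
    conv_lhs => rw [h.decomp hF (g • v)]
    rw [hxu, one_smul]
    abel
  have hb : δ + δ ^ q = -herm q (γ • w) (γ • w) := by
    have h0 : herm q (g • v) (g • v) = 0 := by rw [herm_smul_SU, h.vv]
    rw [hgv] at h0
    simp only [herm_add_left, herm_add_right hF, herm_smul_left, herm_smul_right hF, h.vv, h.uu,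
      h.uv, herm_one_swap hF h.uv, h.wu, h.wv, h.ww, (herm_eq_zero_comm hF).1 h.wu,
      (herm_eq_zero_comm hF).1 h.wv] at h0
    simp only [herm_smul_left, herm_smul_right hF, h.ww]
    linear_combination h0
  have hwu : herm q (γ • w) u = 0 := by rw [herm_smul_left, h.wu, mul_zero]
  set Q := Qel hF h.uu hwu hb with hQ
  have hQu : Q • u = u := by
    rw [hQ, Qel_smul]
    simp [herm_smul_right hF, h.uu, (herm_eq_zero_comm hF).1 h.wu]
  have hQv : Q • v = g • v := by
    rw [hQ, Qel_smul, hgv]
    simp [herm_smul_right hF, herm_one_swap hF h.uv, (herm_eq_zero_comm hF).1 h.wv, add_assoc]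
  have hgQ : g = Q := by
    have h1 : Q⁻¹ * g = 1 := h.eq_one hF
      (by rw [mul_smul, hu, inv_smul_eq_iff, hQu])
      (by rw [mul_smul, inv_smul_eq_iff, hQv])
    exact (inv_mul_eq_one.mp h1).symm
  refine ⟨γ, δ, hgv, ?_⟩
  rw [hgQ, hQ, Qel_smul]
  simp [herm_smul_right hF, h.wu, h.ww, sub_eq_add_neg]

theorem Frame.isPGroup_stabilizer {p : ℕ} [Fact p.Prime] [CharP F p] (h : Frame q u v w) :
    IsPGroup p (stabilizer G u) := by
  rintro ⟨g, hg⟩
  refine ⟨2, Subtype.ext ?_⟩
  obtain ⟨γ, δ, hgv, hgw⟩ := h.fix_u hF hg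
  have key : ∀ n : ℕ, ∃ c : F, (g ^ n) • v = v + ((n : F) * γ) • w + c • u := by
    intro n
    induction n with
    | zero => exact ⟨0, by simp⟩
    | succ n ih =>
      obtain ⟨c, hc⟩ := ih
      refine ⟨δ - (n : F) * γ * γ ^ q + c, ?_⟩
      rw [pow_succ', mul_smul, hc, smul_add, smul_add, smul_comm g, smul_comm g, hgv, hgw,
        show g • u = u from hg]
      push_cast
      module
  obtain ⟨c, hc⟩ := key p
  rw [CharP.cast_eq_zero F p, zero_mul, zero_smul, add_zero] at hc
  have hgpu : (g ^ p) • u = u := (stabilizer G u).pow_mem hg p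
  have key2 : ∀ n : ℕ, ((g ^ p) ^ n) • v = v + ((n : F) * c) • u := by
    intro n
    induction n with
    | zero => simp
    | succ n ih =>
      rw [pow_succ', mul_smul, ih, smul_add, smul_comm (g ^ p), hgpu, hc]
      push_cast
      module
  show g ^ p ^ 2 = 1
  refine h.eq_one hF ((stabilizer G u).pow_mem hg _) ?_
  rw [sq, pow_mul, key2 p, CharP.cast_eq_zero F p, zero_mul, zero_smul, add_zero]

/-- The rank one data of `SU₃`. -/
theorem exists_data_SU3 {p : ℕ} [Fact p.Prime] [CharP F p] (hp5 : 5 ≤ p) :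
    Nonempty (Data p G (IsoPt hF 3) Fˣ) := by
  obtain ⟨h2p, h20, h22⟩ := two_pow_sub_one (F := F) hp5
  obtain ⟨p', k, hp', -, hc', hqk⟩ := exists_prime_pow hF
  haveI := hc'
  obtain rfl : p' = p := CharP.eq F hc' ‹CharP F p›
  have h2q : (2 : F) ^ q = 2 := by
    rw [hqk]
    clear hqk
    induction k with
    | zero => simp
    | succ k ih =>
      rw [pow_succ, pow_mul, ih, ← Nat.sub_add_cancel (show 1 ≤ p' by omega), pow_succ, h2p, one_mul]
  obtain ⟨u, v₀, huS, hv₀S, huu, hv₀v₀, huv₀⟩ :=
    exists_std_pair hF (n := 3) (show (0 : Fin 3) ≠ 1 by decide)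
  obtain ⟨w₀, -, hw₀u, hw₀v, hw₀w⟩ := exists_orth_norm hF (S := ∅) (u := u) (v := v₀) (by simp)
    (by simp [supp_empty]) (by simp [supp_empty]) huu hv₀v₀ huv₀ (one_pow q)
  have h₀ : Frame q u v₀ w₀ := ⟨huu, hv₀v₀, huv₀, hw₀u, hw₀v, hw₀w⟩
  obtain ⟨t, -, htu, htx⟩ := exists_torus hF (S := ∅) (u := u) (v := v₀) (by simp [supp_empty])
    (by simp [supp_empty]) huu hv₀v₀ huv₀ h20 h2q
  have htw₀ : t • w₀ = w₀ := htx w₀ hw₀u hw₀v
  obtain ⟨δ, hδ⟩ : ∃ δ : F, t • v₀ = δ • u + (2⁻¹ : F) • v₀ := by
    refine ⟨herm q (t • v₀) v₀, ?_⟩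
    conv_lhs => rw [h₀.decomp hF (t • v₀)]
    have e1 : herm q (t • v₀) u * 2 = 1 := by
      have e := herm_smul_SU t v₀ u
      rw [htu, herm_smul_right hF, h2q, herm_one_swap hF huv₀] at e
      rw [← e, mul_comm]
    have e2 : herm q (t • v₀) w₀ = 0 := by
      rw [← htw₀, herm_smul_SU, (herm_eq_zero_comm hF).1 hw₀v]
    rw [e2, zero_smul, add_zero, eq_inv_of_mul_eq_one_left e1]
  have h2' : (2⁻¹ : F) - 2 ≠ 0 := fun e => h22 (by
    rw [sub_eq_zero] at e
    rw [sq]
    nth_rewrite 1 [← e]
    exact inv_mul_cancel₀ h20)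
  set v := v₀ + (δ / (2⁻¹ - 2)) • u with hv
  have htv : t • v = (2⁻¹ : F) • v := by
    rw [hv, smul_add, smul_comm t, htu, hδ]
    match_scalars
    · set e := δ / (2⁻¹ - 2) with he
      have he' : e * (2⁻¹ - 2) = δ := div_mul_cancel₀ δ h2'
      linear_combination -he'
    · ring
  have huv : herm q u v = 1 := by
    rw [hv, herm_add_right hF, huv₀, herm_smul_right hF, huu, mul_zero, add_zero]
  have hwv : herm q w₀ v = 0 := by
    rw [hv, herm_add_right hF, hw₀v, herm_smul_right hF, hw₀u, mul_zero, add_zero]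
  have hvv : herm q v v = 0 := by
    have e := herm_smul_SU t v v
    rw [htv, herm_smul_left, herm_smul_right hF, inv_pow, h2q] at e
    by_contra hne
    refine h22 ?_
    have e' : (2⁻¹ * 2⁻¹ : F) = 1 :=
      mul_right_cancel₀ hne (by rw [one_mul, mul_assoc, e])
    rw [sq]
    field_simp at e'
    linear_combination -e'
  have h : Frame q u v w₀ := ⟨huu, hvv, huv, hw₀u, hwv, hw₀w⟩
  have htw := htw₀
  have hu0 : u ≠ 0 := ne_zero_of_herm_one hF huv
  have hv0 : v ≠ 0 := ne_zero_of_herm_one hF (herm_one_swap hF huv)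
  let inf : IsoPt hF 3 := ⟨Projectivization.mk F u hu0, by
    obtain ⟨a, ha⟩ := (Projectivization.mk_eq_mk_iff' F _ _
      (Projectivization.mk F u hu0).rep_nonzero hu0).1 (Projectivization.mk_rep _)
    rw [← ha, herm_smul_left, herm_smul_right hF, huu, mul_zero, mul_zero]⟩
  let zero : IsoPt hF 3 := ⟨Projectivization.mk F v hv0, by
    obtain ⟨a, ha⟩ := (Projectivization.mk_eq_mk_iff' F _ _
      (Projectivization.mk F v hv0).rep_nonzero hv0).1 (Projectivization.mk_rep _)
    rw [← ha, herm_smul_left, herm_smul_right hF, hvv, mul_zero, mul_zero]⟩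
  have heq : ∀ {g : G} {x : (Fin 3 → F)} (hx : x ≠ 0) (y : IsoPt hF 3) (z : IsoPt hF 3),
      y.1 = Projectivization.mk F x hx → (g • y = z ↔ ∃ a : F, g • x = a • z.1.rep) := by
    intro g x hx y z hy
    constructor
    · intro e
      have e' : g • y.1 = z.1 := congrArg Subtype.val e
      rw [hy, smul_mk_SU g hx, ← z.1.mk_rep] at e'
      obtain ⟨a, ha⟩ := (Projectivization.mk_eq_mk_iff' F _ _ _ _).1 e'
      exact ⟨a, ha.symm⟩
    · rintro ⟨a, ha⟩
      refine Subtype.ext ?_
      rw [coe_smul_pt, hy, smul_mk_SU g hx]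
      conv_rhs => rw [← z.1.mk_rep]
      exact (Projectivization.mk_eq_mk_iff' F _ _ _ _).2 ⟨a, ha.symm⟩
  obtain ⟨au, hau⟩ : ∃ a : F, a • inf.1.rep = u :=
    (Projectivization.mk_eq_mk_iff' F _ _ hu0 inf.1.rep_nonzero).1
      (Projectivization.mk_rep (Projectivization.mk F u hu0)).symm
  obtain ⟨av, hav⟩ : ∃ a : F, a • zero.1.rep = v :=
    (Projectivization.mk_eq_mk_iff' F _ _ hv0 zero.1.rep_nonzero).1
      (Projectivization.mk_rep (Projectivization.mk F v hv0)).symm
  obtain ⟨χ, hχ⟩ := exists_eigen_hom (F := F) hu0 (stabilizer G inf) fun g hg => by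
    obtain ⟨a, ha⟩ := (Projectivization.mk_eq_mk_iff' F _ _ _ _).1
      (show g • Projectivization.mk F u hu0 = Projectivization.mk F u hu0 from
        congrArg Subtype.val hg)
    exact ⟨a, ha.symm⟩
  obtain ⟨c, hc0, hcc⟩ := exists_trace_zero_ne_zero hF
  have hcoord : ∀ {x : (Fin 3 → F)}, x ≠ 0 → herm q x x = 0 → (∀ a : F, x ≠ a • u) → herm q x u ≠ 0 := by
    intro x hx0 hxx hxu e
    have hd := h.decomp hF x
    rw [e, zero_smul, add_zero] at hd
    have hz : herm q x w₀ = 0 := by
      have e' := hxx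
      rw [hd] at e'
      simp only [herm_add_left, herm_add_right hF, herm_smul_left, herm_smul_right hF, huu, h.wu,
        hw₀w, (herm_eq_zero_comm hF).1 h.wu, mul_zero, add_zero, zero_add, mul_one] at e'
      rcases mul_eq_zero.mp e' with e' | e'
      all_goals first | exact e' | exact (pow_q_eq_zero_iff hF).1 e'
    rw [hz, zero_smul, add_zero] at hd
    exact hxu _ hd
  have hne : zero ≠ inf := fun e => by
    obtain ⟨a, ha⟩ := (Projectivization.mk_eq_mk_iff' F _ _ hv0 hu0).1 (congrArg Subtype.val e)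
    have e' := huv
    rw [← ha, herm_smul_right hF, huu, mul_zero] at e'
    exact zero_ne_one e'
  refine ⟨⟨inf, zero, hne, ?_, stabilizer G u, h.isPGroup_stabilizer hF, fun g hg => ?_, χ,
    fun g => ?_, coprime_units, fun x hx => ?_, ?_, t, ?_, ?_, ?_, fun x hx htx' => ?_,
    fun g hg => ?_⟩⟩
  · set δ₀ : F := -(2⁻¹ : F) with hδ₀
    set x : (Fin 3 → F) := v + w₀ + δ₀ • u with hxdef
    have hxx : herm q x x = 0 := by
      simp only [hxdef, herm_add_left, herm_add_right hF, herm_smul_left, herm_smul_right hF, hvv,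
        huu, huv, herm_one_swap hF huv, h.wu, h.wv, h.ww, (herm_eq_zero_comm hF).1 h.wu,
        (herm_eq_zero_comm hF).1 h.wv, hδ₀, neg_pow_q hF, inv_pow, h2q]
      field_simp
      ring
    have hxw : herm q x w₀ = 1 := by
      simp [hxdef, herm_add_left, herm_smul_left, h.ww, (herm_eq_zero_comm hF).1 h.wu,
        (herm_eq_zero_comm hF).1 h.wv]
    have hx0 : x ≠ 0 := fun e => by simp [e] at hxw
    obtain ⟨pt, a, ha0, hpt⟩ := exists_pt hF hx0 hxx
    refine ⟨pt, fun e => ?_, fun e => ?_⟩
    · rw [e] at hpt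
      have e1 : herm q (au • inf.1.rep) w₀ = au * a := by
        rw [hpt, smul_smul, herm_smul_left, hxw, mul_one]
      rw [hau, (herm_eq_zero_comm hF).1 h.wu] at e1
      have : au ≠ 0 := fun e => hu0 (by rw [← hau, e, zero_smul])
      exact (mul_ne_zero this ha0) e1.symm
    · rw [e] at hpt
      have e1 : herm q (av • zero.1.rep) w₀ = av * a := by
        rw [hpt, smul_smul, herm_smul_left, hxw, mul_one]
      rw [hav, (herm_eq_zero_comm hF).1 h.wv] at e1
      have : av ≠ 0 := fun e => hv0 (by rw [← hav, e, zero_smul])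
      exact (mul_ne_zero this ha0) e1.symm
  · exact (heq hu0 inf inf rfl).2 ⟨au, by rw [hau]; exact hg⟩
  · rw [mem_stabilizer_iff, hχ g]
    constructor
    · intro e; rw [e, Units.val_one, one_smul]
    · intro e
      exact Units.ext (smul_left_injective F hu0 (e.trans (one_smul F _).symm))
  · set y := x.1.rep with hy
    have hyu : herm q y u ≠ 0 := hcoord x.1.rep_nonzero x.2 fun a e =>
      hx (Subtype.ext (by
        rw [← x.1.mk_rep]
        exact (Projectivization.mk_eq_mk_iff' F _ _ _ _).2 ⟨a, e.symm⟩))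
    set b := (herm q y u)⁻¹ with hb
    set z := b • y with hz
    have hzu : herm q z u = 1 := by rw [hz, herm_smul_left, hb, inv_mul_cancel₀ hyu]
    have hzz : herm q z z = 0 := by
      rw [hz, herm_smul_left, herm_smul_right hF, hy, x.2, mul_zero, mul_zero]
    set γ := herm q z w₀ with hγ
    set δ' := herm q z v with hδ'
    have hzd : z = δ' • u + v + γ • w₀ := by
      conv_lhs => rw [h.decomp hF z]
      rw [hzu, one_smul]
    have hcond : δ' + δ' ^ q = -herm q (γ • w₀) (γ • w₀) := by
      have e := hzz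
      rw [hzd] at e
      simp only [herm_add_left, herm_add_right hF, herm_smul_left, herm_smul_right hF, hvv,
        huu, huv, herm_one_swap hF huv, h.wu, h.wv, h.ww, (herm_eq_zero_comm hF).1 h.wu,
        (herm_eq_zero_comm hF).1 h.wv] at e
      simp only [herm_smul_left, herm_smul_right hF, h.ww]
      linear_combination e
    have hwu' : herm q (γ • w₀) u = 0 := by rw [herm_smul_left, h.wu, mul_zero]
    refine ⟨Qel hF huu hwu' hcond, ?_, ?_⟩
    · rw [mem_stabilizer_iff, Qel_smul]
      simp [herm_smul_right hF, huu, (herm_eq_zero_comm hF).1 h.wu]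
    · refine (heq hv0 zero x rfl).2 ⟨b, ?_⟩
      rw [← hy, ← hz, hzd, Qel_smul]
      simp [herm_smul_right hF, herm_one_swap hF huv, (herm_eq_zero_comm hF).1 h.wv]
      abel
  · obtain ⟨g, -, hgu, -⟩ := exists_swap hF (S := ∅) (u := u) (v := v) (by simp [supp_empty])
      (by simp [supp_empty]) huu hvv huv hc0 hcc
    exact ⟨g, (heq hu0 inf zero rfl).2 ⟨c * av, by rw [hgu, mul_smul, hav]⟩⟩
  · exact (heq hu0 inf inf rfl).2 ⟨2 * au, by rw [htu, mul_smul, hau]⟩
  · exact (heq hv0 zero zero rfl).2 ⟨2⁻¹ * av, by rw [htv, mul_smul, hav]⟩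
  · have key : ∀ n : ℕ, (t ^ n) • u = ((2 : F) ^ n) • u ∧ (t ^ n) • v = ((2⁻¹ : F) ^ n) • v ∧
        (t ^ n) • w₀ = w₀ := by
      intro n
      induction n with
      | zero => simp
      | succ n ih =>
        rw [pow_succ', mul_smul, mul_smul, mul_smul, ih.1, ih.2.1, ih.2.2, smul_comm t, htu,
          smul_comm t, htv, htw, smul_smul, smul_smul, ← pow_succ, ← pow_succ]
        simp
    obtain ⟨k1, k2, k3⟩ := key (p' - 1)
    refine h.ext hF ?_ ?_ ?_ <;> rw [one_smul]
    · rw [k1, h2p, one_smul]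
    · rw [k2, inv_pow, h2p, inv_one, one_smul]
    · exact k3
  · set y := x.1.rep with hy
    obtain ⟨a, ha⟩ : ∃ a : F, t • y = a • y :=
      (heq x.1.rep_nonzero x x x.1.mk_rep.symm).1 htx'
    have hyu : herm q y u ≠ 0 := hcoord x.1.rep_nonzero x.2 fun a e =>
      hx (Subtype.ext (by
        rw [← x.1.mk_rep]
        exact (Projectivization.mk_eq_mk_iff' F _ _ _ _).2 ⟨a, e.symm⟩))
    have hd := h.decomp hF y
    have eu : a * herm q y u * 2 = herm q y u := by
      have e := herm_smul_SU t y u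
      rw [ha, htu, herm_smul_left, herm_smul_right hF, h2q] at e
      linear_combination e
    have ha2 : a * 2 = 1 := mul_right_cancel₀ hyu (by linear_combination eu)
    have ev : herm q y v = 0 := by
      have e := herm_smul_SU t y v
      rw [ha, htv, herm_smul_left, herm_smul_right hF, inv_pow, h2q,
        eq_inv_of_mul_eq_one_left ha2] at e
      by_contra hne'
      refine h22 ?_
      have e' : (2⁻¹ * 2⁻¹ : F) = 1 :=
        mul_right_cancel₀ hne' (by rw [one_mul, mul_assoc, e])
      rw [sq]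
      field_simp at e'
      linear_combination -e'
    have ew : herm q y w₀ = 0 := by
      have e := herm_smul_SU t y w₀
      rw [ha, htw, herm_smul_left, eq_inv_of_mul_eq_one_left ha2] at e
      by_contra hne'
      refine h22 ?_
      have e' : (2⁻¹ : F) = 1 := mul_right_cancel₀ hne' (by rw [one_mul, e])
      rw [inv_eq_one] at e'
      rw [e', one_pow]
    rw [ev, ew, zero_smul, zero_smul, zero_add, add_zero] at hd
    refine Subtype.ext ?_
    rw [← x.1.mk_rep]
    exact (Projectivization.mk_eq_mk_iff' F _ _ _ _).2 ⟨herm q y u, hd.symm⟩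
  · obtain ⟨r, hr3, -, hr⟩ := scalar_of_fix_isotropic_lines hF (n := 3) (by norm_num) (g := g)
      (fun y hy => by
        rcases eq_or_ne y 0 with rfl | hy0
        · exact ⟨0, by simp⟩
        obtain ⟨pt, a, ha0, hpt⟩ := exists_pt hF hy0 hy
        obtain ⟨b, hb⟩ := (heq pt.1.rep_nonzero pt pt pt.1.mk_rep.symm).1 (hg pt)
        refine ⟨b, ?_⟩
        rw [hpt, smul_comm g, smul_comm b a] at hb
        exact smul_right_injective (Fin 3 → F) ha0 hb)
    refine eq_of_smul_eq_SU fun y => ?_
    have key : ∀ n : ℕ, (g ^ n) • y = r ^ n • y := by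
      intro n
      induction n with
      | zero => simp
      | succ n ih => rw [pow_succ', mul_smul, ih, smul_comm g, hr, smul_smul, ← pow_succ]
    rw [key, one_smul, show 6 = 3 * 2 from rfl, pow_mul, hr3, one_pow, one_smul]

end Cfsg.Agent.FG78.RankOne3047
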